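import Cfsg.Agent.Spor.Cert
import Cfsg.Agent.Spor.J4N.C0

set_option autoImplicit false
set_option maxRecDepth 100000000
set_option Elab.async false

namespace Cfsg.Agent.Spor.J4N

theorem hT : T.Ok 11 := T.ok_of 11 (show AllP (fun n => Net.okb 11 n = true) [n0, n1, n2] from AllP.cons ok0 (AllP.cons ok1 (AllP.cons ok2 (AllP.nil))))

noncomputable def fP : ℕ → Equiv.Perm ℕ := T.fP gs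

theorem hsq : ∀ j < 0, j < 3 → T.fP gs j * T.fP gs j = 1 :=
  Tab.sq (show AllP (fun z => evA T.τ [z, z] = 1) [] from AllP.nil) 3 rfl

theorem hiv : IvOk (2 * 0) (atm 3 (T.fP gs)) := ivOk_atm hsq

theorem pz1 : PZ T (atm 3 (T.fP gs)) EX 1 := PZ.of_atom (y := 2 * 0) (by decide +kernel) (atm_two_mul _ (by decide))
theorem pz2 : PZ T (atm 3 (T.fP gs)) EX 2 := PZ.of_atom (y := 2 * 1) (by decide +kernel) (atm_two_mul _ (by decide))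
theorem pz3 : PZ T (atm 3 (T.fP gs)) EX 3 := PZ.of_atom (y := 2 * 2) (by decide +kernel) (atm_two_mul _ (by decide))
theorem pz4 : PZ T (atm 3 (T.fP gs)) EX 4 := PZ.of_inv hiv pz1 (by decide +kernel)
theorem pz5 : PZ T (atm 3 (T.fP gs)) EX 5 := PZ.of_inv hiv pz2 (by decide +kernel)
theorem pz6 : PZ T (atm 3 (T.fP gs)) EX 6 := PZ.of_inv hiv pz3 (by decide +kernel)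
theorem hPZ : AllP (PZ T (atm 3 (T.fP gs)) EX) L :=
  show AllP (PZ T (atm 3 (T.fP gs)) EX) [1, 2, 3, 4, 5, 6] from AllP.cons pz1 (AllP.cons pz2 (AllP.cons pz3 (AllP.cons pz4 (AllP.cons pz5 (AllP.cons pz6 (AllP.nil))))))

theorem hrel : ∀ l ∈ RL, ev (atm 3 (T.fP gs)) l = 1 :=
  relAll_sound hiv (W := [[1, 1], [2, 2, 2], [2, 1, 2, 1, 2, 1, 2, 1, 2, 1, 2, 1, 2, 1, 2, 1, 2, 1, 2, 1, 2, 1, 2, 1, 2, 1, 2, 1, 2, 1, 2, 1, 2, 1, 2, 1, 2, 1, 2, 1, 2, 1, 2, 1, 2, 1], [2, 1, 5, 4, 2, 1, 5, 4, 2, 1, 5, 4, 2, 1, 5, 4, 2, 1, 5, 4, 2, 1, 5, 4, 2, 1, 5, 4, 2, 1, 5, 4, 2, 1, 5, 4, 2, 1, 5, 4, 2, 1, 5, 4, 2, 1, 5, 4], [2, 1, 2, 1, 5, 4, 5, 4, 2, 1, 2, 1, 5, 4, 5, 4, 2, 1, 2, 1, 5, 4, 5, 4, 2, 1, 2, 1, 5, 4, 5,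 4, 2, 1, 2, 1, 5, 4, 5, 4], [5, 1, 2, 1, 5, 1, 2, 1, 5, 1, 2, 1, 2, 1, 5, 1, 2, 1, 5, 1, 2, 1, 5, 1, 2, 1, 2, 1, 5, 1, 2, 1, 5, 1, 2, 1, 5, 1, 2, 1, 2, 1, 5, 1, 2, 1, 5, 1, 2, 1, 5, 1, 2, 1, 2, 1], [5, 1, 5, 1, 2, 1, 5, 1, 5, 1, 2, 1, 5, 1, 5, 1, 2, 1, 5, 1, 2, 1, 2, 1, 5, 1, 2, 1, 2, 1, 5, 1, 2, 1, 2, 1], [3, 3], [2, 3, 5, 6], [1, 2, 1, 2, 1, 2, 1, 5, 1, 5, 1, 2, 4, 2, 4, 5, 4, 5, 4, 5, 4, 3, 1, 2, 1, 2, 1, 2, 1, 5, 1, 5, 4, 2, 4, 2, 4, 5, 4, 5, 4, 5, 4, 6], [1, 5, 1, 2, 1, 2, 1, 2, 1, 2, 1, 5, 4, 5, 4, 5, 4, 5, 4, 2, 4, 3, 1, 5, 1, 2, 1, 2, 1, 2, 1, 2, 4, 5, 4, 5, 4, 5, 4, 5, 4, 2, 4, 6], [1, 5, 1, 2, 1, 2, 1, 2, 1, 5, 1, 2, 4, 5, 4, 5, 4, 5, 4, 2, 4, 3, 1, 5, 1, 2, 1, 2, 1, 2, 1, 5, 4, 2,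 4, 5, 4, 5, 4, 5, 4, 2, 4, 6], [5, 1, 5, 1, 2, 1, 5, 1, 2, 1, 5, 1, 5, 1, 5, 1, 2, 1, 5, 1, 2, 1, 3, 4, 5, 4, 2, 4, 5, 4, 2, 4, 2, 4, 2, 4, 5, 4, 2, 4, 5, 4, 2, 2, 1, 2, 1, 2, 1, 5, 1, 5, 1, 5, 1, 5, 1, 2, 1, 2, 1, 2, 1, 5, 1, 2, 1, 5, 1, 5, 1, 5, 1, 5, 1, 2, 1, 2, 1, 2, 3, 5, 4, 5, 4, 5, 4, 2, 4, 2, 4, 2, 4, 2, 4, 5, 4, 2, 4, 5, 4, 5, 4, 5, 4, 2, 4, 2, 4, 2, 4, 2, 4, 5, 4, 5, 4, 5, 4, 2, 3]]) (rules := [⟨[1, 1], [], 0, true⟩, ⟨[2, 2, 2], [], 1, true⟩, ⟨[2, 1, 2, 1, 2, 1, 2, 1, 2, 1, 2, 1, 2, 1, 2, 1, 2, 1, 2, 1, 2, 1, 2, 1, 2, 1, 2, 1, 2, 1, 2, 1, 2, 1, 2, 1, 2, 1, 2, 1, 2, 1, 2, 1, 2, 1], [], 2, true⟩, ⟨[2, 1, 5, 4, 2, 1, 5, 4, 2, 1, 5, 4, 2, 1, 5, 4, 2, 1, 5, 4, 2, 1, 5, 4, 2, 1, 5, 4, 2,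 1, 5, 4, 2, 1, 5, 4, 2, 1, 5, 4, 2, 1, 5, 4, 2, 1, 5, 4], [], 3, true⟩, ⟨[2, 1, 2, 1, 5, 4, 5, 4, 2, 1, 2, 1, 5, 4, 5, 4, 2, 1, 2, 1, 5, 4, 5, 4, 2, 1, 2, 1, 5, 4, 5, 4, 2, 1, 2, 1, 5, 4, 5, 4], [], 4, true⟩, ⟨[5, 1, 2, 1, 5, 1, 2, 1, 5, 1, 2, 1, 2, 1, 5, 1, 2, 1, 5, 1, 2, 1, 5, 1, 2, 1, 2, 1, 5, 1, 2, 1, 5, 1, 2, 1, 5, 1, 2, 1, 2, 1, 5, 1, 2, 1, 5, 1, 2, 1, 5, 1, 2, 1, 2, 1], [], 5, true⟩, ⟨[5, 1, 5, 1, 2, 1, 5, 1, 5, 1, 2, 1, 5, 1, 5, 1, 2, 1, 5, 1, 2, 1, 2, 1, 5, 1, 2, 1, 2, 1, 5, 1, 2, 1, 2, 1], [], 6, true⟩, ⟨[3, 3], [], 7, true⟩, ⟨[2, 3, 5, 6], [], 8, true⟩, ⟨[1, 2, 1, 2, 1, 2, 1, 5, 1, 5, 1, 2, 4, 2, 4, 5, 4, 5, 4, 5, 4, 3, 1, 2, 1, 2, 1, 2, 1, 5, 1, 5, 4, 2, 4, 2, 4, 5, 4, 5, 4, 5, 4,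 6], [], 9, true⟩, ⟨[1, 5, 1, 2, 1, 2, 1, 2, 1, 2, 1, 5, 4, 5, 4, 5, 4, 5, 4, 2, 4, 3, 1, 5, 1, 2, 1, 2, 1, 2, 1, 2, 4, 5, 4, 5, 4, 5, 4, 5, 4, 2, 4, 6], [], 10, true⟩, ⟨[1, 5, 1, 2, 1, 2, 1, 2, 1, 5, 1, 2, 4, 5, 4, 5, 4, 5, 4, 2, 4, 3, 1, 5, 1, 2, 1, 2, 1, 2, 1, 5, 4, 2, 4, 5, 4, 5, 4, 5, 4, 2, 4, 6], [], 11, true⟩, ⟨[5, 1, 5, 1, 2, 1, 5, 1, 2, 1, 5, 1, 5, 1, 5, 1, 2, 1, 5, 1, 2, 1, 3, 4, 5, 4, 2, 4, 5, 4, 2, 4, 2, 4, 2, 4, 5, 4, 2, 4, 5, 4, 2, 2, 1, 2, 1, 2, 1, 5, 1, 5, 1, 5, 1, 5, 1, 2, 1, 2, 1, 2, 1, 5, 1, 2, 1, 5, 1, 5, 1, 5, 1, 5, 1, 2, 1, 2, 1, 2, 3, 5, 4, 5, 4, 5, 4, 2, 4, 2, 4, 2, 4, 2, 4, 5, 4, 2, 4, 5, 4, 5, 4, 5, 4, 2, 4, 2, 4, 2, 4, 2, 4, 5, 4, 5, 4, 5, 4, 2, 3], [], 12, true⟩])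 hPZ (AllP.cons (hT.one rel0) (AllP.cons (hT.one rel1) (AllP.cons (hT.one rel2) (AllP.cons (hT.one rel3) (AllP.cons (hT.one rel4) (AllP.cons (hT.one rel5) (AllP.cons (hT.one rel6) (AllP.cons (hT.one rel7) (AllP.cons (hT.one rel8) (AllP.cons (hT.one rel9) (AllP.cons (hT.one rel10) (AllP.cons (hT.one rel11) (AllP.cons (hT.one rel12) (AllP.nil)))))))))))))) (by decide +kernel)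

theorem pres : Pres 3 0 RL fP := ⟨hsq, hrel⟩

end Cfsg.Agent.Spor.J4N
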