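import Cfsg.Agent.Spor.Sub3
import Cfsg.Agent.Spor.J4N.L.Main
import Cfsg.Agent.Spor.J4S.V.Main

set_option autoImplicit false
set_option maxRecDepth 100000

namespace Cfsg.Agent.Spor.J4N

/-- the permutation group -/
noncomputable abbrev P : Subgroup (Equiv.Perm ℕ) := gsub 3 fP
noncomputable abbrev p : ℕ → P := lift P fP

theorem lbP : 501397585920 ∣ Nat.card P := by
  rw [P, L.eG]; exact L.lb
section
variable {G : Type} [Group G] {g : ℕ → G} (hg : Pres 3 0 RL g)
include hg

theorem presS : Pres 2 0 J4P.RL g := hg.restrict (H := [([], 0, true), ([], 1, true), ([], 2, true), ([], 3, true), ([], 4, true), ([], 5, true), ([], 6, true)]) (by decide +kernel)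
theorem bw : ∀ w ∈ J4F.BW, ev (atm 3 g) w = 1 := hg.cons_repl2 (y := 5) (u := [4]) (H := [([], 7, true), ([4], 8, true), ([4], 9, true), ([4], 10, true), ([4], 11, true), ([], 7, true), ([], 12, true), ([], 13, false), ([], 13, false)]) (by decide +kernel)
theorem homψ : ∃ ψ : J4P.P →* G, ∀ j < 2, ψ (J4P.p j) = g j :=
  J4P.bound.exists_hom (by norm_num) J4P.pres (presS hg) J4P.lbP

/-- the data of the double coset enumeration -/
noncomputable def Y : DCtx J4F.D (ZMod 2) J4P.P G := ⟨J4P.X, (homψ hg).choose, g 2⟩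

theorem hψ : ∀ j < 2, (Y hg).ψ (J4P.p j) = g j := (homψ hg).choose_spec
theorem hA : (Y hg).At 4 (atm 2 J4P.p) (atm 3 g) := DCtx.At.of J4P.gens (hψ hg) rfl
theorem upto : (Y hg).Upto 394 := J4F.upto (hA hg) (bw hg)
theorem range : (Y hg).ψ.range = gsub 2 g := range_eq_gsub (hψ hg) (gsub_lift 2 _)
theorem done : (Y hg).Done 2 J4P.p J4S.V.CL 244823040 2048 := J4S.V.done (upto hg) J4P.gens
theorem gtop (ht : gsub 3 g = ⊤) : ∀ K : Subgroup G, (Y hg).ψ.range ≤ K → (Y hg).t ∈ K → K = ⊤ :=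
  DCtx.gen_top (hψ hg) rfl ht
theorem exact (ht : gsub 3 g = ⊤) (hl : 244823040 * 2048 ∣ Nat.card G) :
    DExact (Y hg).ψ ((Y hg).xs J4S.V.CL) (DCtx.Ss 2 J4P.p J4S.V.CL) 2048 :=
  (done hg).exact (gtop hg ht) hl
theorem coatom (ht : gsub 3 g = ⊤) (hl : 244823040 * 2048 ∣ Nat.card G) : IsCoatom (Y hg).ψ.range :=
  (done hg).coatom (gtop hg ht) (by rw [(exact hg ht hl).index]; norm_num) (J4S.V.loops (upto hg))

end

theorem bound : Bound 3 0 RL 501397585920 := Bound.of_le (fun _ _ _ hf ht =>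
  ⟨(done hf).finite (gtop hf ht), (done hf).card_le (gtop hf ht)⟩) pres lbP

theorem cardP : Nat.card P = 501397585920 := Nat.dvd_antisymm (bound _ _ pres) lbP

instance instFiniteP : Finite P := Nat.finite_of_card_ne_zero (by rw [cardP]; norm_num)

theorem presP : Pres 3 0 RL p := pres.lift

theorem hl : 244823040 * 2048 ∣ Nat.card P := cardP.symm.dvd

theorem coatomP : IsCoatom (gsub 2 p) := range presP ▸ coatom presP (gsub_lift 3 _) hl

theorem indexP : (gsub 2 p).index = 2048 := range presP ▸ (exact presP (gsub_lift 3 _) hl).index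

theorem coreP : (gsub 2 p).normalCore = ⊥ :=
  haveI := J4P.simpleP
  range presP ▸ (exact presP (gsub_lift 3 _) hl).core (i := ⟨1, by decide⟩) (core_eq_bot_of_simple (by
    rw [(done presP).card_S (exact presP (gsub_lift 3 _) hl)]; decide +kernel))

end Cfsg.Agent.Spor.J4N
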